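import Cfsg.Agent.Lib.FFModules.SL2Pair.Core
import Mathlib.GroupTheory.Sylow
import Mathlib.Order.Atoms.Finite
import Cfsg.Prelude.Def_Solvable

/-!
A minimal offender `A` in a group that is generated by `A` and any conjugate outside the unique
maximal subgroup over a Sylow subgroup: the group is `SL₂` on the natural module.

The key point: for `d` in a translate of `C = C_W(A)` the elements of `A` fixing `d` modulo the
fixed points lie in every conjugate of `M`, as every translate outside `M` is a complement of `C`.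
-/

set_option autoImplicit false
set_option linter.style.haveILetI false

namespace CfsgLib.FFModules.SL2Pair

open scoped MatrixGroups

variable {H W : Type*} [Group H] [AddCommGroup W] [DistribMulAction H W]

/-- The hypotheses of the recognition of `SL₂` from an offender `A` that generates the group
together with any of its conjugates outside `M`. -/
structure IsGenOffender (p : ℕ) [Fact p.Prime] (T : Sylow p H) (M A : Subgroup H) (W : Type*)
    [AddCommGroup W] [DistribMulAction H W] : Prop where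
  faithful : ∀ g : H, (∀ v : W, g • v = v) → g = 1
  exponent : ∀ v : W, p • v = 0
  coatom : IsCoatom M
  sylow_le : (T : Subgroup H) ≤ M
  unique : ∀ N : Subgroup H, IsCoatom N → (T : Subgroup H) ≤ N → N = M
  le_T : A ≤ T
  quad : ∀ a ∈ A, ∀ v : W, a • v - v ∈ fixedSub A
  offender : Nat.card W ≤ Nat.card A * Nat.card (fixedSub A : AddSubgroup W)
  moved : ∃ v : W, v ∈ fixedSub (T : Subgroup H) ∧ ∃ g : H, g • v ≠ v
  gen : ∀ x : H, x ∉ M → A ⊔ A.map (MulAut.conj x).toMonoidHom = ⊤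

/-- The condition under which the recognition works: an element of `A` fixing a vector of a
translate modulo the fixed points is trivial.  It holds for minimal offenders and also whenever
`O_p` is trivial. -/
def FixModTrivial (M A : Subgroup H) (W : Type*) [AddCommGroup W] [DistribMulAction H W] : Prop :=
  ∀ ⦃x : H⦄, x ∉ M → ∀ ⦃a : H⦄, a ∈ A → ∀ ⦃d : W⦄, x⁻¹ • d ∈ fixedSub A →
    d ∉ fixedSub (⊤ : Subgroup H) → a • d - d ∈ fixedSub (⊤ : Subgroup H) → a = 1

/-- The hypotheses of the recognition of `SL₂` from a minimal offender. -/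
structure IsMinimalOffender (p : ℕ) [Fact p.Prime] (T : Sylow p H) (M A : Subgroup H) (W : Type*)
    [AddCommGroup W] [DistribMulAction H W] : Prop extends IsGenOffender p T M A W where
  minimal : ∀ A₀ : Subgroup H, A₀ ≤ A → A₀ ≠ ⊥ → A₀ ≠ A →
    Nat.card A₀ * Nat.card (fixedSub A₀ : AddSubgroup W) <
      Nat.card A * Nat.card (fixedSub A : AddSubgroup W)

namespace IsGenOffender

variable {p : ℕ} [Fact p.Prime] {T : Sylow p H} {M A : Subgroup H} (h : IsGenOffender p T M A W)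
include h

theorem le_M : A ≤ M := h.le_T.trans h.sylow_le

theorem fixed_mem_fixedSub {v : W} (hv : v ∈ fixedSub (⊤ : Subgroup H)) : v ∈ fixedSub A :=
  fun a _ => hv a (Subgroup.mem_top a)

theorem inter {g : H} (hg : g ∉ M) {v : W} (hv : v ∈ fixedSub A) (hgv : g • v ∈ fixedSub A) :
    v ∈ fixedSub (⊤ : Subgroup H) := by
  rw [← h.gen g⁻¹ fun h1 => hg (inv_mem_iff.1 h1), mem_fixedSub_sup]
  exact ⟨hv, mem_fixedSub_conj.2 (by rwa [inv_inv])⟩

theorem exists_decomp_span {y : H} (hy : y ∉ M) (g : H) {v : W} (hv : v ∈ fixedSub A) :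
    ∃ c d : W, c ∈ fixedSub A ∧ y⁻¹ • d ∈ fixedSub A ∧ c + d = g • v := by
  set C : AddSubgroup W := fixedSub A
  set D : AddSubgroup W := fixedSub (A.map (MulAut.conj y).toMonoidHom)
  let S : Subgroup H :=
    { carrier := {g | ∀ u ∈ C ⊔ D, g • u ∈ C ⊔ D ∧ g⁻¹ • u ∈ C ⊔ D}
      one_mem' := fun u hu => by simpa using hu
      mul_mem' := fun {g k} hg hk u hu => ⟨by rw [mul_smul]; exact (hg _ (hk u hu).1).1,
        by rw [_root_.mul_inv_rev, mul_smul]; exact (hk _ (hg u hu).2).2⟩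
      inv_mem' := fun {g} hg u hu => ⟨(hg u hu).2, by rw [inv_inv]; exact (hg u hu).1⟩ }
  have hA : ∀ a ∈ A, ∀ u ∈ C ⊔ D, a • u ∈ C ⊔ D := fun a ha u hu => by
    have := add_mem (AddSubgroup.mem_sup_left (T := D) (h.quad a ha u)) hu
    rwa [sub_add_cancel] at this
  have hB : ∀ b ∈ A.map (MulAut.conj y).toMonoidHom, ∀ u ∈ C ⊔ D, b • u ∈ C ⊔ D := by
    rintro _ ⟨a, ha, rfl⟩ u hu
    have hD : (y * a * y⁻¹) • u - u ∈ D := mem_fixedSub_conj.2 (by
      rw [mul_smul, mul_smul, smul_sub, inv_smul_smul]; exact h.quad a ha _)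
    have := add_mem (AddSubgroup.mem_sup_right (S := C) hD) hu
    rwa [sub_add_cancel] at this
  have htop : (⊤ : Subgroup H) ≤ S := by
    rw [← h.gen y hy]
    exact sup_le (fun a ha u hu => ⟨hA a ha u hu, hA _ (A.inv_mem ha) u hu⟩)
      (fun b hb u hu => ⟨hB b hb u hu, hB _ (Subgroup.inv_mem _ hb) u hu⟩)
  obtain ⟨c, hc, d, hd, e⟩ := AddSubgroup.mem_sup.1 ((htop (Subgroup.mem_top g)) v
    (AddSubgroup.mem_sup_left hv)).1
  exact ⟨c, d, hc, mem_fixedSub_conj.1 hd, e⟩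

/-- An element of `A` fixing a vector of a translate modulo the fixed points lies in every
conjugate of `M`. -/
theorem mem_normalCore {x : H} (hx : x ∉ M) {a : H} (ha : a ∈ A) {d : W} (hd : x⁻¹ • d ∈ fixedSub A)
    (hdZ : d ∉ fixedSub (⊤ : Subgroup H)) (had : a • d - d ∈ fixedSub (⊤ : Subgroup H)) :
    a ∈ M.normalCore := by
  intro g
  by_cases hg : g ∈ M
  · exact M.mul_mem (M.mul_mem hg (h.le_M ha)) (M.inv_mem hg)
  by_contra hga
  have hy : g⁻¹ ∉ M := fun h1 => hg (inv_mem_iff.1 h1)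
  obtain ⟨c, u, hc, hu, e⟩ := h.exists_decomp_span hy x hd
  rw [smul_inv_smul] at e
  rw [inv_inv] at hu
  have hau : a • u - u = a • d - d := by
    rw [← e, smul_add, hc a ha]; abel
  have h1 : (g * a * g⁻¹) • (g • u) ∈ fixedSub A := by
    have e' : (g * a * g⁻¹) • (g • u) = g • u + g • (a • d - d) := by
      rw [← hau, smul_sub, mul_smul, mul_smul, inv_smul_smul]; abel
    rw [e', had g (Subgroup.mem_top g)]
    exact add_mem hu (h.fixed_mem_fixedSub had)
  have hguZ := h.inter hga hu h1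
  have huZ : u ∈ fixedSub A := by
    have := h.fixed_mem_fixedSub hguZ
    rwa [← hguZ g⁻¹ (Subgroup.mem_top _), inv_smul_smul] at this
  exact hdZ (by
    have hdA : d ∈ fixedSub A := e ▸ add_mem hc huZ
    exact h.inter (g := x⁻¹) (fun h2 => hx (inv_mem_iff.1 h2)) hdA hd)

variable [Finite H]

theorem core_inf_sylow_normal :
    ((T : Subgroup H) ⊓ M.normalCore).Normal ∧
      ∀ g ∈ M.normalCore, g ^ p = 1 → g ∈ (T : Subgroup H) := by
  set N := M.normalCore with hN
  set Q := (T : Subgroup H) ⊓ N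
  have hQp : IsPGroup p ↥(Q.subgroupOf N) := (T.isPGroup'.to_le inf_le_left).comap_subtype
  obtain ⟨P, hP⟩ := hQp.exists_le_sylow
  obtain ⟨T', hT'⟩ := (P.isPGroup'.map N.subtype).exists_le_sylow
  obtain ⟨g, hg⟩ := MulAction.exists_smul_eq H T' T
  have hPQ : (P : Subgroup N) = Q.subgroupOf N := by
    refine (Subgroup.eq_of_le_of_card_ge hP ?_).symm
    rw [Nat.card_congr (Subgroup.subgroupOfEquivOfLe (show Q ≤ N from inf_le_right)).toEquiv,
      Nat.card_congr ((P : Subgroup N).equivMapOfInjective _ N.subtype_injective).toEquiv,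
      Nat.card_congr (((P : Subgroup N).map N.subtype).equivMapOfInjective
        (MulAut.conj g).toMonoidHom (MulAut.conj g).injective).toEquiv]
    refine Subgroup.card_le_of_le ?_
    rintro _ ⟨_, ⟨u, hu, rfl⟩, rfl⟩
    refine ⟨?_, Subgroup.Normal.conj_mem inferInstance _ u.2 g⟩
    rw [← hg]
    show g * (u : H) * g⁻¹ ∈ ((g • T' : Sylow p H) : Subgroup H)
    rw [Sylow.coe_subgroup_smul, Subgroup.mem_pointwise_smul_iff_inv_smul_mem]
    simpa [MulAut.conj_apply, mul_assoc] using hT' ⟨u, hu, rfl⟩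
  have hmap : (P : Subgroup N).map N.subtype = Q := by
    rw [hPQ]; exact Subgroup.map_subgroupOf_eq_of_le inf_le_right
  have hNorm : Subgroup.normalizer ((Q : Subgroup H) : Set H) = ⊤ := by
    have hfr : Subgroup.normalizer ((Q : Subgroup H) : Set H) ⊔ N = ⊤ := by
      have := Sylow.normalizer_sup_eq_top P
      rwa [hmap] at this
    by_contra hne
    obtain ⟨N', hN', hle⟩ := (eq_top_or_exists_le_coatom (Subgroup.normalizer ((Q : Subgroup H) : Set H))).resolve_left hne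
    have hTN : (T : Subgroup H) ≤ N' := by
      refine le_trans (fun t ht => ?_) hle
      rw [Subgroup.mem_normalizer_iff]
      intro y
      refine ⟨fun hy => ⟨Subgroup.mul_mem _ (Subgroup.mul_mem _ ht hy.1) (Subgroup.inv_mem _ ht),
        Subgroup.Normal.conj_mem inferInstance _ hy.2 t⟩, fun hy => ?_⟩
      have h1 := Subgroup.mul_mem _ (Subgroup.mul_mem _ (Subgroup.inv_mem _ ht) hy.1) ht
      have h2 : t⁻¹ * (t * y * t⁻¹) * t⁻¹⁻¹ ∈ N := Subgroup.Normal.conj_mem inferInstance _ hy.2 t⁻¹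
      simp only [mul_assoc, inv_mul_cancel_left, inv_inv, inv_mul_cancel, mul_one] at h1 h2
      exact ⟨h1, h2⟩
    rw [h.unique N' hN' hTN] at hle
    exact h.coatom.1 (top_le_iff.1 (hfr ▸ sup_le hle M.normalCore_le))
  have hQn : Q.Normal := Subgroup.normalizer_eq_top_iff.1 hNorm
  refine ⟨hQn, fun g hgN hgp => ?_⟩
  have hz : IsPGroup p ↥(Subgroup.zpowers (⟨g, hgN⟩ : N)) := by
    rintro ⟨z, hz⟩
    obtain ⟨m, rfl⟩ := Subgroup.mem_zpowers_iff.1 hz
    refine ⟨1, Subtype.ext ?_⟩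
    show ((⟨g, hgN⟩ : N) ^ m) ^ (p ^ 1) = 1
    rw [pow_one, ← zpow_natCast, zpow_comm, zpow_natCast,
      show (⟨g, hgN⟩ : N) ^ p = 1 from Subtype.ext hgp, one_zpow]
  obtain ⟨P', hP'⟩ := hz.exists_le_sylow
  obtain ⟨k, hk⟩ := MulAction.exists_smul_eq N P P'
  have h1 : (⟨g, hgN⟩ : N) ∈ ((k • P : Sylow p N) : Subgroup N) :=
    hk ▸ hP' (Subgroup.mem_zpowers _)
  rw [Sylow.coe_subgroup_smul, Subgroup.mem_pointwise_smul_iff_inv_smul_mem] at h1
  have h2 : (k : H)⁻¹ * g * k ∈ Q := by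
    rw [← hmap]
    exact ⟨_, h1, by simp [MulAut.conj_apply, mul_assoc]⟩
  have h3 := hQn.conj_mem _ h2 (k : H)
  have e : (k : H) * ((k : H)⁻¹ * g * k) * (k : H)⁻¹ = g := by group
  exact e ▸ h3.1

theorem smul_orbit_eq {a : H} (ha : a ∈ (T : Subgroup H) ⊓ M.normalCore) {v : W}
    (hv : v ∈ fixedSub (T : Subgroup H)) (g : H) : a • g • v = g • v := by
  have h1 := h.core_inf_sylow_normal.1.conj_mem a ha g⁻¹
  rw [inv_inv] at h1
  have := hv _ h1.1
  rw [mul_smul, mul_smul, inv_smul_eq_iff] at this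
  exact this

variable [Finite W]

theorem fixModTrivial_of_pCore (hO : Cfsg.pCore p H = ⊥) : FixModTrivial M A W := by
  intro x hx a ha d hd hdZ had
  have h1 : a ∈ (T : Subgroup H) ⊓ M.normalCore := ⟨h.le_T ha, h.mem_normalCore hx ha hd hdZ had⟩
  have h2 : (T : Subgroup H) ⊓ M.normalCore ≤ Cfsg.pCore p H :=
    le_sSup ⟨h.core_inf_sylow_normal.1, T.isPGroup'.to_le inf_le_left⟩
  rw [hO] at h2
  exact Subgroup.mem_bot.1 (h2 h1)

variable (hfm : FixModTrivial M A W)
include hfm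

theorem isPreData {x : H} (hx : x ∉ M) :
    IsPreData (⊤ : Subgroup H) M A x (fixedSub (⊤ : Subgroup H) : AddSubgroup W) where
  le_K := le_top
  le_M := h.le_M
  x_mem := Subgroup.mem_top x
  x_not := hx
  quad := h.quad
  offender := h.offender
  Z_le _ hv := h.fixed_mem_fixedSub hv
  Z_inv g _ v hv := by rw [hv g (Subgroup.mem_top g)]; exact hv
  inter _ _ hg _ hv hgv := h.inter hg hv hgv
  inj a ha v hv hav := by
    by_cases hvZ : v ∈ fixedSub (⊤ : Subgroup H)
    · exact Or.inr hvZ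
    · exact Or.inl (hfm hx ha hv hvZ hav)
  not_le hle := by
    obtain ⟨v, hv, g, hg⟩ := h.moved
    exact hg (hle (fixedSub_anti h.le_T hv) g (Subgroup.mem_top g))

theorem ti {x : H} (hx : x ∉ M) {a : H} (ha : a ∈ A) (hM : x⁻¹ * a * x ∈ M) : a = 1 := by
  have hd := h.isPreData hfm hx
  obtain ⟨d, hd', hdZ⟩ := hd.exists_mem_other_not_mem
  have h1 : x⁻¹ • a • d ∈ fixedSub A := by
    rw [show x⁻¹ • a • d = (x⁻¹ * a * x) • (x⁻¹ • d) by rw [mul_smul, mul_smul, smul_inv_smul]]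
    exact hd.smul_mem_fixed (Subgroup.mem_top _) hM hd'
  refine hfm hx ha hd' hdZ (hd.mem_Z_of_mem_both (h.quad a ha d) ?_)
  rw [smul_sub]
  exact sub_mem h1 hd'

theorem isPairData {x : H} (hx : x ∉ M) :
    IsPairData (⊤ : Subgroup H) M A x (fixedSub (⊤ : Subgroup H) : AddSubgroup W) where
  toIsPreData := h.isPreData hfm hx
  ti _ ha hM := h.ti hfm hx ha hM
  ti' a ha hM := h.ti hfm (x := x⁻¹) (fun h1 => hx (inv_mem_iff.1 h1)) ha (by rwa [inv_inv])

/-- The recognition theorem. -/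
theorem exists_sl2 :
    ∃ (F : Type) (_ : Field F) (_ : Fintype F) (ρ : H ≃* SL(2, F)) (ψ : W →+ (Fin 2 → F)),
      Fintype.card F = Nat.card A ∧ Function.Surjective ψ ∧
        (∀ v, ψ v = 0 ↔ ∀ g : H, g • v = v) ∧
        (∀ (g : H) (v : W), ψ (g • v) =
          ((ρ g : SL(2, F)) : Matrix (Fin 2) (Fin 2) F).mulVec (ψ v)) ∧
        ∀ S : AddSubgroup W, (∀ v, (∀ g : H, g • v = v) → v ∈ S) →
          (∀ a ∈ A, ∀ v : W, a • v - v ∈ S) → (fixedSub A : AddSubgroup W) ≤ S := by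
  obtain ⟨x, hx⟩ : ∃ x, x ∉ M := by
    by_contra hc
    push Not at hc
    exact h.coatom.1 ((Subgroup.eq_top_iff' M).2 hc)
  have hd := h.isPairData hfm hx
  set Z : AddSubgroup W := fixedSub (⊤ : Subgroup H) with hZ
  obtain ⟨v₀, hv₀, g₀, hg₀⟩ := h.moved
  have hv₀C : v₀ ∈ fixedSub A := fixedSub_anti h.le_T hv₀
  have hd₀ : x⁻¹ • x • v₀ ∈ fixedSub A := by rwa [inv_smul_smul]
  have hd₀Z : x • v₀ ∉ Z := fun e => hg₀ (by
    have e1 := e x⁻¹ (Subgroup.mem_top _)
    rw [inv_smul_smul] at e1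
    rw [e1]; exact e g₀ (Subgroup.mem_top _))
  -- `C` is `[x v₀, A] + Z`
  have hsurj : ∀ c ∈ (fixedSub A : AddSubgroup W), ∃ a ∈ A, ∃ z ∈ Z, c = a • x • v₀ - x • v₀ + z := by
    intro c hc
    obtain ⟨⟨a, ha⟩, e⟩ := ((Nat.bijective_iff_injective_and_card _).2
      ⟨hd.class_injective hd₀ hd₀Z, hd.card_quotient.symm⟩).2 (QuotientAddGroup.mk ⟨c, hc⟩)
    rw [QuotientAddGroup.eq, AddSubgroup.mem_addSubgroupOf] at e
    exact ⟨a, ha, _, e, (add_neg_cancel_left _ c).symm⟩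
  have hker : ∀ g ∈ (⊤ : Subgroup H), (∀ v : W, g • v - v ∈ Z) → g = 1 := by
    intro g _ hg
    have hconj : ∀ k : H, ∀ v : W, (k * g * k⁻¹) • v - v ∈ Z := fun k v => by
      have := hd.Z_inv k (Subgroup.mem_top k) _ (hg (k⁻¹ • v))
      rwa [smul_sub, smul_inv_smul, ← mul_smul, ← mul_smul] at this
    have hcore : g ∈ M.normalCore := fun k =>
      hd.mem_M_of_conj_fixed (Subgroup.mem_top _) fun v hv => by
        simpa using add_mem (h.fixed_mem_fixedSub (hconj k v)) hv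
    have hgp : g ^ p = 1 := by
      refine h.faithful _ fun v => ?_
      have key : ∀ n : ℕ, g ^ n • v = v + n • (g • v - v) := by
        intro n
        induction n with
        | zero => simp
        | succ n ih =>
          rw [pow_succ', mul_smul, ih, smul_add, nsmul_mem (hg v) n g (Subgroup.mem_top g), succ_nsmul]
          abel
      rw [key, h.exponent, add_zero]
    have hnorm := h.core_inf_sylow_normal
    have hQ : g ∈ (T : Subgroup H) ⊓ M.normalCore := ⟨hnorm.2 g hcore hgp, hcore⟩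
    have hfixC : ∀ k : H, ∀ c ∈ (fixedSub A : AddSubgroup W), g • k • c = k • c := by
      intro k c hc
      obtain ⟨a, ha, z, hz, rfl⟩ := hsurj c hc
      rw [smul_add, smul_add, smul_sub, smul_sub, ← mul_smul k a, ← mul_smul (k * a) x, ← mul_smul k x,
        h.smul_orbit_eq hQ hv₀, h.smul_orbit_eq hQ hv₀, hz k (Subgroup.mem_top k),
        hz g (Subgroup.mem_top g)]
    refine h.faithful g fun v => ?_
    obtain ⟨c, d, hc, hdd, rfl⟩ := hd.exists_decomp v
    rw [smul_add]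
    congr 1
    · simpa using hfixC 1 c hc
    · simpa using hfixC x _ hdd
  obtain ⟨F, hF, hF', hcard, ρ, ψ, hψ, hψ0, hρ, -⟩ := hd.exists_sl2 h.exponent (h.gen x hx) hker
  refine ⟨F, hF, hF', Subgroup.topEquiv.symm.trans ρ, ψ, hcard, hψ,
    fun v => (hψ0 v).trans ⟨fun hv g => hv g (Subgroup.mem_top g), fun hv g _ => hv g⟩,
    fun g v => hρ ⟨g, Subgroup.mem_top g⟩ v, fun S hS hS' c hc => ?_⟩
  obtain ⟨a, ha, z, hz, rfl⟩ := hsurj c hc
  exact add_mem (hS' a ha _) (hS z fun g => hz g (Subgroup.mem_top g))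

end IsGenOffender

namespace IsMinimalOffender

variable {p : ℕ} [Fact p.Prime] {T : Sylow p H} {M A : Subgroup H} (h : IsMinimalOffender p T M A W)
variable [Finite H] [Finite W]
include h

theorem eq_one_of_fixed_mod {x : H} (hx : x ∉ M) {a : H} (ha : a ∈ A) {d : W}
    (hd : x⁻¹ • d ∈ fixedSub A) (hdZ : d ∉ fixedSub (⊤ : Subgroup H))
    (had : a • d - d ∈ fixedSub (⊤ : Subgroup H)) : a = 1 := by
  classical
  set Z : AddSubgroup W := fixedSub (⊤ : Subgroup H) with hZ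
  set C : AddSubgroup W := fixedSub A with hC
  set A₁ := A ⊓ M.normalCore with hA₁
  have haA₁ : a ∈ A₁ := ⟨ha, h.toIsGenOffender.mem_normalCore hx ha hd hdZ had⟩
  by_contra ha1
  have hA₁ne : A₁ ≠ ⊥ := fun e => ha1 (by rw [e, Subgroup.mem_bot] at haA₁; exact haA₁)
  obtain ⟨v₀, hv₀, g₀, hg₀⟩ := h.moved
  have hv₀C : v₀ ∈ C := fixedSub_anti h.le_T hv₀
  have hv₀Z : v₀ ∉ Z := fun e => hg₀ (e g₀ (Subgroup.mem_top _))
  let S₀ : AddSubgroup W := AddSubgroup.closure (Set.range fun g : H => g • v₀)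
  have hS₀ : ∀ g : H, ∀ u ∈ S₀, g • u ∈ S₀ := by
    intro g u hu
    induction hu using AddSubgroup.closure_induction with
    | mem u hu =>
      obtain ⟨k, rfl⟩ := hu
      exact AddSubgroup.subset_closure ⟨g * k, mul_smul g k v₀⟩
    | zero => rw [smul_zero]; exact zero_mem _
    | add u w _ _ hu hw => rw [smul_add]; exact add_mem hu hw
    | neg u _ hu => rw [smul_neg]; exact neg_mem hu
  have hfix : ∀ b ∈ A₁, ∀ u ∈ S₀, b • u = u := by
    intro b hb u hu
    induction hu using AddSubgroup.closure_induction with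
    | mem u hu =>
      obtain ⟨k, rfl⟩ := hu
      exact h.toIsGenOffender.smul_orbit_eq ⟨h.le_T hb.1, hb.2⟩ hv₀ k
    | zero => rw [smul_zero]
    | add u w _ _ hu hw => rw [smul_add, hu, hw]
    | neg u _ hu => rw [smul_neg, hu]
  set d₀ := x • v₀ with hd₀
  have hd₀S : d₀ ∈ S₀ := AddSubgroup.subset_closure ⟨x, rfl⟩
  have hd₀x : x⁻¹ • d₀ ∈ fixedSub A := by rw [hd₀, inv_smul_smul]; exact hv₀C
  have hd₀Z : d₀ ∉ Z := fun e => hv₀Z (by
    have := e x⁻¹ (Subgroup.mem_top _)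
    rw [hd₀, inv_smul_smul] at this
    exact this.symm ▸ e)
  have hA₁A : A₁ ≠ A := fun e => by
    have h1 : d₀ ∈ fixedSub A := fun b hb => hfix b (e.ge hb) d₀ hd₀S
    exact hd₀Z (h.toIsGenOffender.inter (g := x⁻¹) (fun h2 => hx (inv_mem_iff.1 h2)) h1 hd₀x)
  refine absurd (h.minimal A₁ inf_le_left hA₁ne hA₁A) (not_lt.2 ?_)
  -- `|A : A₁|` is at most `|C ∩ S₀ : Z|`, which is at most the gain
  set C₀ := C ⊓ S₀
  set Z₀ := Z.addSubgroupOf C₀
  have hmem : ∀ b ∈ A, b • d₀ - d₀ ∈ C₀ := fun b hb =>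
    ⟨h.quad b hb d₀, (show b • d₀ - d₀ ∈ S₀ from sub_mem (hS₀ b d₀ hd₀S) hd₀S)⟩
  let f : A → C₀ ⧸ Z₀ := fun b => QuotientAddGroup.mk ⟨(b : H) • d₀ - d₀, hmem b b.2⟩
  have hf : ∀ b c : A, f b = f c → (b : H)⁻¹ * c ∈ A₁ := by
    intro b c e
    rw [QuotientAddGroup.eq, AddSubgroup.mem_addSubgroupOf] at e
    refine ⟨A.mul_mem (A.inv_mem b.2) c.2, h.toIsGenOffender.mem_normalCore hx (A.mul_mem (A.inv_mem b.2) c.2) hd₀x hd₀Z ?_⟩
    have e1 : (-((b : H) • d₀ - d₀) + ((c : H) • d₀ - d₀) : W) = (c : H) • d₀ - (b : H) • d₀ := by abel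
    have e2 : (c : H) • d₀ - (b : H) • d₀ ∈ Z := e1 ▸ e
    have e3 : ((b : H)⁻¹ * c) • d₀ - d₀ = (b : H)⁻¹ • ((c : H) • d₀ - (b : H) • d₀) := by
      rw [smul_sub, inv_smul_smul, mul_smul]
    rw [e3, e2 _ (Subgroup.mem_top _)]
    exact e2
  have h1 : Nat.card (A ⧸ A₁.subgroupOf A) ≤ Nat.card (C₀ ⧸ Z₀) :=
    Nat.card_le_card_of_injective (fun q => f q.out) fun q r e => by
      rw [← QuotientGroup.out_eq' q, ← QuotientGroup.out_eq' r, QuotientGroup.eq,
        Subgroup.mem_subgroupOf]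
      exact hf _ _ e
  have h2 : Nat.card (C₀ ⧸ Z₀) * Nat.card C ≤ Nat.card (fixedSub A₁ : AddSubgroup W) := by
    rw [← Nat.card_prod]
    refine Nat.card_le_card_of_injective (fun uc => ⟨x • ((uc.1.out : C₀) : W) + (uc.2 : W),
      fun b hb => ?_⟩) ?_
    · rw [smul_add, hfix b hb _ (hS₀ x _ (uc.1.out : C₀).2.2), uc.2.2 b hb.1]
    · rintro ⟨u, c⟩ ⟨u', c'⟩ e
      have e' : x • ((u.out : C₀) : W) + (c : W) = x • ((u'.out : C₀) : W) + (c' : W) :=
        congrArg Subtype.val e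
      have e1 : x • (((u.out : C₀) : W) - (u'.out : C₀)) = (c' : W) - c := by
        rw [smul_sub, sub_eq_sub_iff_add_eq_add, e', add_comm]
      have h3 := h.toIsGenOffender.inter hx (sub_mem (u.out : C₀).2.1 (u'.out : C₀).2.1)
        (by rw [e1]; exact sub_mem c'.2 c.2)
      have hu : u = u' := by
        rw [← QuotientAddGroup.out_eq' u, ← QuotientAddGroup.out_eq' u', QuotientAddGroup.eq,
          AddSubgroup.mem_addSubgroupOf]
        show -((u.out : C₀) : W) + (u'.out : C₀) ∈ Z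
        have := neg_mem h3
        rwa [neg_sub, sub_eq_neg_add] at this
      subst hu
      rw [sub_self, smul_zero] at e1
      exact Prod.ext rfl (Subtype.ext (sub_eq_zero.1 e1.symm).symm)
  have h3 : Nat.card A = Nat.card (A ⧸ A₁.subgroupOf A) * Nat.card A₁ := by
    rw [Subgroup.card_eq_card_quotient_mul_card_subgroup (A₁.subgroupOf A),
      Nat.card_congr (Subgroup.subgroupOfEquivOfLe (show A₁ ≤ A from inf_le_left)).toEquiv]
  calc Nat.card A * Nat.card C = Nat.card A₁ * (Nat.card (A ⧸ A₁.subgroupOf A) * Nat.card C) := by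
        rw [h3]; ring
    _ ≤ Nat.card A₁ * (Nat.card (C₀ ⧸ Z₀) * Nat.card C) :=
        Nat.mul_le_mul_left _ (Nat.mul_le_mul_right _ h1)
    _ ≤ _ := Nat.mul_le_mul_left _ h2

theorem fixModTrivial : FixModTrivial M A W := fun _ hx _ ha _ hd hdZ had =>
  h.eq_one_of_fixed_mod hx ha hd hdZ had

/-- The recognition theorem for minimal offenders. -/
theorem exists_sl2 :
    ∃ (F : Type) (_ : Field F) (_ : Fintype F) (ρ : H ≃* SL(2, F)) (ψ : W →+ (Fin 2 → F)),
      Fintype.card F = Nat.card A ∧ Function.Surjective ψ ∧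
        (∀ v, ψ v = 0 ↔ ∀ g : H, g • v = v) ∧
        (∀ (g : H) (v : W), ψ (g • v) =
          ((ρ g : SL(2, F)) : Matrix (Fin 2) (Fin 2) F).mulVec (ψ v)) ∧
        ∀ S : AddSubgroup W, (∀ v, (∀ g : H, g • v = v) → v ∈ S) →
          (∀ a ∈ A, ∀ v : W, a • v - v ∈ S) → (fixedSub A : AddSubgroup W) ≤ S :=
  h.toIsGenOffender.exists_sl2 h.fixModTrivial

end IsMinimalOffender

end CfsgLib.FFModules.SL2Pair
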